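import Mathlib

/-!
# Invertible modules as invertible ideals comaximal to a given ideal
-/

set_option autoImplicit false

universe u

namespace Groth.Agent.PicLau88

open TensorProduct

variable {S : Type u} [CommRing S] {M : Type u} [AddCommGroup M] [Module S M] [Module.Invertible S M]

theorem smul_eq_zero_of_mem_nonZeroDivisors {F : S} (hF : F ∈ nonZeroDivisors S) {m : M} (h : F • m = 0) :
    m = 0 :=
  Module.eval_apply_injective S (LinearMap.ext fun θ => by
    have h1 := congrArg θ h
    rw [map_smul, map_zero, smul_eq_mul] at h1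
    simpa using (mem_nonZeroDivisors_iff.mp hF).1 _ h1)

theorem swap {φ : M →ₗ[S] S} {n : M} (hF : φ n ∈ nonZeroDivisors S) (w m : M) :
    φ w • m = φ m • w := by
  obtain ⟨s, hs⟩ := (Module.Invertible.toModuleEnd_bijective S M).2 (φ.smulRight m)
  have h1 : ∀ v, s • v = φ v • m := fun v => LinearMap.congr_fun hs v
  have h2 : s = φ m := by
    have h3 := congrArg φ (h1 n)
    rw [map_smul, map_smul, smul_eq_mul, smul_eq_mul] at h3
    have : (s - φ m) * φ n = 0 := by rw [sub_mul, h3]; ring
    exact sub_eq_zero.mp ((mul_right_mem_nonZeroDivisors_eq_zero_iff hF).mp this)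
  rw [← h1, h2]

theorem injective_of_regular {φ : M →ₗ[S] S} {n : M} (hF : φ n ∈ nonZeroDivisors S) :
    Function.Injective φ := by
  refine (injective_iff_map_eq_zero φ).mpr fun m hm => smul_eq_zero_of_mem_nonZeroDivisors hF ?_
  rw [swap hF n m, hm, zero_smul]

theorem exists_complement {φ : M →ₗ[S] S} {n : M} (hF : φ n ∈ nonZeroDivisors S) :
    ∃ K : Ideal S, φ n ∈ K ∧ LinearMap.range φ * K = Ideal.span {φ n} := by
  refine ⟨LinearMap.range (Module.Dual.eval S M n), ⟨φ, rfl⟩, le_antisymm ?_ ?_⟩
  · rw [Ideal.mul_le]
    rintro _ ⟨v, rfl⟩ _ ⟨θ, rfl⟩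
    refine Ideal.mem_span_singleton'.mpr ⟨θ v, ?_⟩
    show θ v * φ n = φ v * θ n
    have := congrArg θ (swap hF v n)
    rw [map_smul, map_smul, smul_eq_mul, smul_eq_mul] at this
    rw [this]
    ring
  · rw [Ideal.span_le, Set.singleton_subset_iff]
    obtain ⟨z, hz⟩ := (Module.Invertible.linearEquiv S M).surjective 1
    have key : ∀ z : Module.Dual S M ⊗[S] M,
        φ n * Module.Invertible.linearEquiv S M z ∈ LinearMap.range φ * LinearMap.range (Module.Dual.eval S M n) := by
      intro z
      induction z using TensorProduct.induction_on with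
      | zero => simp
      | tmul θ v =>
        have h1 : φ n * θ v = φ v * θ n := by
          have := congrArg θ (swap hF v n)
          rw [map_smul, map_smul, smul_eq_mul, smul_eq_mul] at this
          rw [this]
        show φ n * θ v ∈ _
        rw [h1]
        exact Ideal.mul_mem_mul ⟨v, rfl⟩ ⟨θ, rfl⟩
      | add a b ha hb => rw [map_add, mul_add]; exact add_mem ha hb
    have := key z
    rwa [hz, mul_one] at this

omit [Module.Invertible S M] in
theorem invertible_of_mul_eq_span {I K : Ideal S} {f : S} (hf : f ∈ nonZeroDivisors S)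
    (h : I * K = Ideal.span {f}) : Module.Invertible S I := by
  let A := FractionRing S
  let P₁ : Submodule S A := IsLocalization.coeSubmodule A I
  let P₂ : Submodule S A := Submodule.span S {IsLocalization.mk' A (1 : S) ⟨f, hf⟩} * IsLocalization.coeSubmodule A K
  have hP : P₁ * P₂ = 1 := by
    rw [mul_left_comm, ← IsLocalization.coeSubmodule_mul, h, IsLocalization.coeSubmodule_span_singleton,
      Submodule.span_mul_span, Set.singleton_mul_singleton, IsLocalization.mk'_spec, map_one]
    exact Submodule.one_eq_span.symm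
  haveI : Module.Invertible S P₁ := inferInstanceAs (Module.Invertible S (Units.mkOfMulEqOne P₁ P₂ hP).1)
  haveI : Module.Invertible S (Submodule.map (Algebra.linearMap S A) I) := ‹Module.Invertible S P₁›
  exact Module.Invertible.congr
    (Submodule.equivMapOfInjective (Algebra.linearMap S A) (IsFractionRing.injective S A) I).symm

theorem ideal_regular_principal {f : S} (hf : f ∈ nonZeroDivisors S) :
    Nonempty (Ideal.span {f} ≃ₗ[S] S) := by
  have hinj : Function.Injective (LinearMap.toSpanSingleton S S f) := fun a b hab =>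
    sub_eq_zero.mp ((mul_right_mem_nonZeroDivisors_eq_zero_iff hf).mp
      (by rw [sub_mul]; exact sub_eq_zero.mpr hab))
  exact ⟨((LinearEquiv.ofInjective _ hinj).trans (LinearEquiv.ofEq _ _ (LinearMap.range_toSpanSingleton f))).symm⟩

omit [Module.Invertible S M] in
theorem range_liftBaseChange_subtype (T : Type u) [CommRing T] [Algebra S T] (I : Ideal S) :
    LinearMap.range ((Algebra.linearMap S T ∘ₗ I.subtype).liftBaseChange T) = I.map (algebraMap S T) := by
  refine le_antisymm ?_ ?_
  · rintro _ ⟨z, rfl⟩
    induction z using TensorProduct.induction_on with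
    | zero => rw [map_zero]; exact zero_mem _
    | tmul a x =>
      rw [LinearMap.liftBaseChange_tmul]
      exact Ideal.mul_mem_left _ _ (Ideal.mem_map_of_mem _ x.2)
    | add a b ha hb => rw [map_add]; exact add_mem ha hb
  · rw [Ideal.map_le_iff_le_comap]
    intro x hx
    exact ⟨1 ⊗ₜ ⟨x, hx⟩, by simp⟩

end Groth.Agent.PicLau88
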