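import Groth.Prelude.Def_HTop2
import Mathlib

/-!
# Invertible modules over `R[X]` for a seminormal local ring (Traverso, Swan; proof after Coquand)
-/

set_option autoImplicit false

universe u

namespace Groth.Agent.PicLau88

open Polynomial TensorProduct

section

variable {R : Type u} [CommRing R]

/-- A generating family with coordinates. -/
theorem exists_dualBasis (M : Type u) [AddCommGroup M] [Module R M] [Module.Finite R M] [Module.Projective R M] :
    ∃ (n : ℕ) (m : Fin n → M) (θ : Fin n → (M →ₗ[R] R)), ∀ v, ∑ i, θ i v • m i = v := by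
  obtain ⟨n, π, s, -, -, hπs⟩ := Module.Finite.exists_comp_eq_id_of_projective R M
  refine ⟨n, fun i => π (Pi.single i 1), fun i => LinearMap.proj i ∘ₗ s, fun v => ?_⟩
  refine Eq.trans ?_ (LinearMap.congr_fun hπs v)
  show _ = π (s v)
  conv_rhs => rw [pi_eq_sum_univ' (s v)]
  rw [map_sum]
  refine Finset.sum_congr rfl fun i _ => ?_
  rw [map_smul]
  rfl

/-- Over a field, the coordinate matrix of an invertible module over polynomials is a product. -/
theorem exists_vectors_field {n : ℕ} {M : Type u} [AddCommGroup M] [Module R[X] M] [Module.Invertible R[X] M]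
    (m : Fin n → M) (θ : Fin n → (M →ₗ[R[X]] R[X])) (hm : ∀ v, ∑ i, θ i v • m i = v) (i₀ : Fin n)
    {F : Type u} [Field F] (φ : R →+* F) (hu : φ ((θ i₀ (m i₀)).coeff 0) ≠ 0) :
    ∃ f g : Fin n → F[X], (∑ i, f i * g i = 1) ∧ (∀ i j, f i * g j = (θ i (m j)).map φ) ∧
      (f i₀).coeff 0 = 1 ∧ (g i₀).coeff 0 = φ ((θ i₀ (m i₀)).coeff 0) := by
  classical
  let q : R[X] →+* F[X] := mapRingHom φ
  letI : Algebra R[X] F[X] := q.toAlgebra
  haveI : Subsingleton (CommRing.Pic F[X]) := by
    letI : NormalizedGCDMonoid F[X] := UniqueFactorizationMonoid.toNormalizedGCDMonoid _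
    infer_instance
  obtain ⟨e⟩ := (Module.Invertible.free_iff_linearEquiv (R := F[X]) (M := F[X] ⊗[R[X]] M)).mp inferInstance
  let g : Fin n → F[X] := fun j => e (1 ⊗ₜ m j)
  let f : Fin n → F[X] := fun i => (Algebra.linearMap R[X] F[X] ∘ₗ θ i).liftBaseChange F[X] (e.symm 1)
  have hprod : ∀ i j, f i * g j = (θ i (m j)).map φ := fun i j => by
    show _ * e (1 ⊗ₜ m j) = q (θ i (m j))
    rw [mul_comm, ← smul_eq_mul, ← map_smul, ← map_smul, smul_eq_mul, mul_one, e.symm_apply_apply]
    simp
    rfl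
  have hsum : ∑ i, f i * g i = 1 := by
    have h1 : ∀ z : F[X] ⊗[R[X]] M,
        ∑ i, (Algebra.linearMap R[X] F[X] ∘ₗ θ i).liftBaseChange F[X] z • ((1 : F[X]) ⊗ₜ[R[X]] m i) = z := by
      intro z
      induction z using TensorProduct.induction_on with
      | zero => simp
      | tmul a v =>
        conv_rhs => rw [← hm v, TensorProduct.tmul_sum]
        refine Finset.sum_congr rfl fun i _ => ?_
        rw [LinearMap.liftBaseChange_tmul, TensorProduct.smul_tmul', ← TensorProduct.smul_tmul,
          Algebra.smul_def]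
        simp [Algebra.smul_def, mul_comm]
      | add a b ha hb => simp only [map_add, add_smul, Finset.sum_add_distrib, ha, hb]
    have h2 := congrArg e (h1 (e.symm 1))
    rw [map_sum, e.apply_symm_apply] at h2
    refine Eq.trans (Finset.sum_congr rfl fun i _ => ?_) h2
    rw [map_smul, smul_eq_mul]
  have hfg : (f i₀).coeff 0 * (g i₀).coeff 0 = φ ((θ i₀ (m i₀)).coeff 0) := by
    rw [← mul_coeff_zero, hprod, coeff_map]
  have hc : (f i₀).coeff 0 ≠ 0 := left_ne_zero_of_mul (hfg ▸ hu)
  refine ⟨fun i => C ((f i₀).coeff 0)⁻¹ * f i, fun j => C ((f i₀).coeff 0) * g j, ?_, fun i j => ?_, ?_, ?_⟩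
  · rw [← hsum]
    refine Finset.sum_congr rfl fun i _ => ?_
    rw [mul_mul_mul_comm, ← C_mul, inv_mul_cancel₀ hc, C_1, one_mul]
  · rw [mul_mul_mul_comm, ← C_mul, inv_mul_cancel₀ hc, C_1, one_mul, hprod]
  · rw [coeff_C_mul, inv_mul_cancel₀ hc]
  · rw [coeff_C_mul, hfg]

/-- Normalised factorisations are unique over a reduced ring. -/
theorem vectors_unique {T : Type u} [CommRing T] [IsReduced T] {n : ℕ} (f g f' g' : Fin n → T[X]) (i₀ : Fin n)
    (hfg : ∀ i j, f i * g j = f' i * g' j) (h : ∑ i, f i * g i = 1) (h' : ∑ i, f' i * g' i = 1)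
    (h0 : (f i₀).coeff 0 = 1) (h0' : (f' i₀).coeff 0 = 1) : f = f' ∧ g = g' := by
  let U := ∑ j, g j * f' j
  have hf : ∀ i, f i * U = f' i := fun i => by
    rw [Finset.mul_sum]
    calc ∑ j, f i * (g j * f' j) = f' i * ∑ j, f' j * g' j := by
          rw [Finset.mul_sum]
          refine Finset.sum_congr rfl fun j _ => ?_
          rw [← mul_assoc, hfg]; ring
      _ = f' i := by rw [h', mul_one]
  have hU : IsUnit U := IsUnit.of_mul_eq_one (∑ i, g' i * f i) (by
    rw [Finset.mul_sum, ← h']
    refine Finset.sum_congr rfl fun i _ => ?_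
    rw [← hf i]; ring)
  have hU0 : U = C (U.coeff 0) := by
    ext k
    rcases Nat.eq_zero_or_pos k with rfl | hk
    · rw [coeff_C_zero]
    · rw [coeff_C, if_neg hk.ne']
      exact ((isUnit_iff_coeff_isUnit_isNilpotent.mp hU).2 k hk.ne').eq_zero
  have hU1 : U = 1 := by
    have := congrArg (fun p => p.coeff 0) (hf i₀)
    simp only [mul_coeff_zero, h0, h0', one_mul] at this
    rw [hU0, this, C_1]
  refine ⟨funext fun i => by rw [← hf i, hU1, mul_one], funext fun j => ?_⟩
  calc g j = (∑ i, f i * g i) * g j := by rw [h, one_mul]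
    _ = ∑ i, g i * (f i * g j) := by rw [Finset.sum_mul]; exact Finset.sum_congr rfl fun i _ => by ring
    _ = U * g' j := by
        rw [Finset.sum_mul]; exact Finset.sum_congr rfl fun i _ => by rw [hfg]; ring
    _ = g' j := by rw [hU1, one_mul]

variable {K : Type u} [CommRing K] [Algebra R K]

theorem isIntegral_coeff_of_dvd_of_coeff_zero {f g : K[X]} {p : R[X]} (h : f * g = p.map (algebraMap R K))
    (hp : IsUnit (p.coeff 0)) (hf : f.coeff 0 = 1) : ∀ k, IsIntegral R (f.coeff k) := by
  nontriviality R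
  rcases subsingleton_or_nontrivial K with hK | hK
  · exact fun k => Subsingleton.elim (0 : K) (f.coeff k) ▸ isIntegral_zero
  obtain ⟨v, hv⟩ := hp
  let p' : R[X] := C (↑v⁻¹ : R) * p
  have hp'0 : p'.coeff 0 = 1 := by rw [coeff_C_mul, ← hv, Units.inv_mul]
  let g' : K[X] := C (algebraMap R K ↑v⁻¹) * g
  have h1 : f * g' = p'.map (algebraMap R K) := by rw [Polynomial.map_mul, map_C, ← h]; ring
  let G := max g'.natDegree p'.natDegree
  have hmon : ∀ {S : Type u} [CommRing S] {q : S[X]} (N : ℕ), q.natDegree ≤ N → q.coeff 0 = 1 →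
      (reflect N q).Monic := fun {S} _ q N hN hq =>
    monic_of_natDegree_le_of_coeff_eq_one N (natDegree_reflect_le.trans (max_le le_rfl hN)) (by
      rw [coeff_reflect, revAt_le le_rfl, Nat.sub_self, hq])
  have hdvd : reflect f.natDegree f ∣ (reflect (f.natDegree + G) p').map (algebraMap R K) :=
    ⟨reflect G g', by rw [← reflect_mul f g' le_rfl (le_max_left _ _), h1, reflect_map]⟩
  intro k
  by_cases hk : k ≤ f.natDegree
  · have := isIntegral_coeff_of_dvd (reflect (f.natDegree + G) p') (reflect f.natDegree f)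
      (hmon _ ((le_max_right _ _).trans (Nat.le_add_left _ _)) hp'0) (hmon _ le_rfl hf) hdvd (f.natDegree - k)
    rwa [coeff_reflect, revAt_le (Nat.sub_le _ _), Nat.sub_sub_self hk] at this
  · rw [coeff_eq_zero_of_natDegree_lt (not_le.mp hk)]; exact isIntegral_zero

theorem isIntegral_coeff_of_mul {f g : K[X]} {p : R[X]} (h : f * g = p.map (algebraMap R K))
    (hf : f.coeff 0 = 1) (hint : ∀ k, IsIntegral R (f.coeff k)) : ∀ k, IsIntegral R (g.coeff k) := by
  intro k
  induction k using Nat.strong_induction_on with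
  | _ k ih =>
    have h1 := congrArg (fun q => q.coeff k) h
    simp only [coeff_mul, coeff_map] at h1
    rw [← Finset.add_sum_erase _ _ (show ((0, k) : ℕ × ℕ) ∈ Finset.HasAntidiagonal.antidiagonal k from
      Finset.HasAntidiagonal.mem_antidiagonal.mpr (zero_add k)), hf, one_mul, ← eq_sub_iff_add_eq] at h1
    rw [h1]
    refine IsIntegral.sub isIntegral_algebraMap (IsIntegral.sum _ fun x hx => ?_)
    obtain ⟨hne, hx⟩ := Finset.mem_erase.mp hx
    have hx' := Finset.HasAntidiagonal.mem_antidiagonal.mp hx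
    refine (hint _).mul (ih _ ?_)
    rcases Nat.eq_zero_or_pos x.1 with h0 | h0
    · exact absurd (Prod.ext h0 (by show x.2 = k; omega)) hne
    · omega

/-- For a seminormal ring, a reduced overring element with square and cube in the ring is in it. -/
theorem mem_of_sq_of_cube [IsReduced K] (hR : HTop.IsSeminormalRing R) (hinj : Function.Injective (algebraMap R K))
    {s : K} (h2 : s ^ 2 ∈ Set.range (algebraMap R K)) (h3 : s ^ 3 ∈ Set.range (algebraMap R K)) :
    s ∈ Set.range (algebraMap R K) := by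
  obtain ⟨x, hx⟩ := h2
  obtain ⟨y, hy⟩ := h3
  obtain ⟨a, ⟨ha2, ha3⟩, -⟩ := hR x y (hinj (by rw [map_pow, map_pow, hx, hy, ← pow_mul, ← pow_mul]))
  refine ⟨a, ?_⟩
  rw [← sub_eq_zero]
  refine IsReduced.eq_zero _ ⟨3, ?_⟩
  rw [ha2, map_pow] at hx
  rw [ha3, map_pow] at hy
  linear_combination (-3 * s - 3 * algebraMap R K a) * hx + (4 : K) * hy

theorem isReduced_of_seminormal (hR : HTop.IsSeminormalRing R) : IsReduced R :=
  (isReduced_iff_pow_one_lt 2 one_lt_two).mpr fun x hx => by
    obtain ⟨a, -, ha⟩ := hR 0 0 (by simp)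
    have h1 := ha x ⟨hx.symm, by rw [pow_succ, hx, zero_mul]⟩
    have h2 := ha 0 ⟨by simp, by simp⟩
    rw [h1, h2]

theorem map_eq_zero_of_minimal (A : Type u) [CommRing A] [Algebra R A] (I : Ideal R)
    (hI : I ≤ RingHom.ker (algebraMap R A)) (p : Ideal R) [p.IsPrime] (hp : p ∈ I.minimalPrimes)
    {T : Type u} [CommRing T] [IsReduced T] (q : A →+* T) (hu : ∀ z ∉ p, IsUnit (q (algebraMap R A z)))
    (r : R) (hr : r ∈ p) : q (algebraMap R A r) = 0 := by
  refine IsReduced.eq_zero _ (mem_nilradical.mp ?_)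
  rw [nilradical_eq_sInf, Ideal.mem_sInf]
  intro Q hQ
  haveI : Q.IsPrime := hQ
  have h1 : Q.comap (q.comp (algebraMap R A)) ≤ p := fun z hz => by
    by_contra hzp
    exact Ideal.IsPrime.ne_top ‹Q.IsPrime› (Ideal.eq_top_of_isUnit_mem _ hz (hu z hzp))
  have h2 : I ≤ Q.comap (q.comp (algebraMap R A)) := fun z hz => by
    rw [Ideal.mem_comap, RingHom.comp_apply, show algebraMap R A z = 0 from hI hz, map_zero]
    exact zero_mem _
  exact hp.2 ⟨Ideal.comap_isPrime _ _, h2⟩ h1 hr

theorem exists_fraction_hom (p : Ideal R) [p.IsPrime] {T : Type u} [CommRing T] (ρ₀ : R →+* T)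
    (h0 : ∀ r ∈ p, ρ₀ r = 0) (hu : ∀ r ∉ p, IsUnit (ρ₀ r)) :
    ∃ χ : FractionRing (R ⧸ p) →+* T, χ.comp ((algebraMap (R ⧸ p) _).comp (Ideal.Quotient.mk p)) = ρ₀ := by
  have hρ : ∀ y : nonZeroDivisors (R ⧸ p), IsUnit (Ideal.Quotient.lift p ρ₀ h0 y) := fun ⟨y, hy⟩ => by
    obtain ⟨r, rfl⟩ := Ideal.Quotient.mk_surjective y
    exact hu r fun h => nonZeroDivisors.ne_zero hy (Ideal.Quotient.eq_zero_iff_mem.mpr h)
  exact ⟨IsLocalization.lift hρ, RingHom.ext fun r => IsLocalization.lift_eq (S := FractionRing (R ⧸ p)) hρ _⟩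

/-- A reduced algebra killed by `I` maps, over the residue field of a minimal prime over `I`, to a reduced ring. -/
theorem exists_reduced_fibre (A : Type u) [CommRing A] [IsReduced A] [Algebra R A] (I : Ideal R)
    (hI : I ≤ RingHom.ker (algebraMap R A)) (p : Ideal R) [p.IsPrime] (hp : p ∈ I.minimalPrimes) :
    ∃ (T : Type u) (_ : CommRing T) (_ : IsReduced T) (q : A →+* T) (χ : FractionRing (R ⧸ p) →+* T),
      χ.comp ((algebraMap (R ⧸ p) _).comp (Ideal.Quotient.mk p)) = q.comp (algebraMap R A) ∧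
      ∀ x y, q x = q y → ∃ t ∉ p, algebraMap R A t * x = algebraMap R A t * y := by
  let Sg : Submonoid A := p.primeCompl.map (algebraMap R A).toMonoidHom
  have hu : ∀ z ∉ p, IsUnit (algebraMap A (Localization Sg) (algebraMap R A z)) := fun z hz =>
    IsLocalization.map_units (Localization Sg) (⟨_, ⟨z, hz, rfl⟩⟩ : Sg)
  obtain ⟨χ, hχ⟩ := exists_fraction_hom p ((algebraMap A (Localization Sg)).comp (algebraMap R A))
    (fun r hr => map_eq_zero_of_minimal A I hI p hp (algebraMap A (Localization Sg)) hu r hr) hu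
  refine ⟨Localization Sg, inferInstance, inferInstance, algebraMap A (Localization Sg), χ, hχ, fun x y hxy => ?_⟩
  obtain ⟨⟨_, t, ht, rfl⟩, h⟩ := (IsLocalization.eq_iff_exists Sg (Localization Sg)).mp hxy
  exact ⟨t, ht, h⟩

variable [IsReduced K] {n : ℕ} (hR : HTop.IsSeminormalRing R) (hinj : Function.Injective (algebraMap R K))

include hR hinj

set_option maxHeartbeats 1000000 in
/-- The coefficients of a normalised factorisation lie in a seminormal ring. -/
theorem coeff_mem_range (f g : Fin n → K[X]) (i₀ : Fin n) (a : Fin n → Fin n → R[X])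
    (hfg : ∀ i j, f i * g j = (a i j).map (algebraMap R K)) (hsum : ∑ i, f i * g i = 1)
    (hu : IsUnit ((a i₀ i₀).coeff 0)) (hf0 : (f i₀).coeff 0 = 1)
    (hfields : ∀ {F : Type u} [Field F] (φ : R →+* F), ∃ f' g' : Fin n → F[X], (∑ i, f' i * g' i = 1) ∧
      (∀ i j, f' i * g' j = (a i j).map φ) ∧ (f' i₀).coeff 0 = 1) :
    ∀ i k, (f i).coeff k ∈ Set.range (algebraMap R K) ∧ (g i).coeff k ∈ Set.range (algebraMap R K) := by
  classical
  -- integrality
  obtain ⟨v, hv⟩ := hu
  have hg0 : (g i₀).coeff 0 = algebraMap R K v := by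
    rw [hv, ← coeff_map, ← hfg, mul_coeff_zero, hf0, one_mul]
  have hif := isIntegral_coeff_of_dvd_of_coeff_zero (hfg i₀ i₀) ⟨v, hv⟩ hf0
  have hig : ∀ j k, IsIntegral R ((g j).coeff k) := fun j => isIntegral_coeff_of_mul (hfg i₀ j) hf0 hif
  have hif' : ∀ i k, IsIntegral R ((f i).coeff k) := fun i => by
    refine isIntegral_coeff_of_mul (f := C (algebraMap R K ↑v⁻¹) * g i₀) (g := f i) (p := C (↑v⁻¹ : R) * a i i₀) ?_ ?_ ?_
    · rw [Polynomial.map_mul, map_C, ← hfg]; ring
    · rw [coeff_C_mul, hg0, ← map_mul, Units.inv_mul, map_one]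
    · intro k
      rw [coeff_C_mul]
      exact isIntegral_algebraMap.mul (hig i₀ k)
  let A : Set K := ⋃ i, (((f i).coeffs ∪ (g i).coeffs : Finset K) : Set K)
  have hAfin : A.Finite := Set.finite_iUnion fun i => Finset.finite_toSet _
  have hAint : ∀ z ∈ A, IsIntegral R z := fun z hz => by
    obtain ⟨i, hi⟩ := Set.mem_iUnion.mp hz
    rw [Finset.coe_union, Set.mem_union, Finset.mem_coe, Finset.mem_coe, mem_coeffs_iff, mem_coeffs_iff] at hi
    rcases hi with ⟨k, -, rfl⟩ | ⟨k, -, rfl⟩
    · exact hif' i k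
    · exact hig i k
  let S := Algebra.adjoin R A
  haveI : Module.Finite R S := Module.Finite.of_fg (fg_adjoin_of_finite hAfin hAint)
  have hcS : ∀ i k, (f i).coeff k ∈ S ∧ (g i).coeff k ∈ S := fun i k => by
    have key : ∀ q : K[X], (q.coeffs : Set K) ⊆ A → q.coeff k ∈ S := fun q hq => by
      by_cases h : q.coeff k = 0
      · rw [h]; exact zero_mem _
      · exact Algebra.subset_adjoin (hq (coeff_mem_coeffs h))
    exact ⟨key _ (Set.subset_iUnion_of_subset i (by simp)), key _ (Set.subset_iUnion_of_subset i (by simp))⟩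
  -- the conductor
  let c : Ideal S :=
    { carrier := {s | ∀ t : S, (s : K) * t ∈ Set.range (algebraMap R K)}
      zero_mem' := fun t => ⟨0, by simp⟩
      add_mem' := fun {x y} hx hy t => by
        obtain ⟨p, hp⟩ := hx t
        obtain ⟨q, hq⟩ := hy t
        exact ⟨p + q, by rw [map_add, hp, hq, AddMemClass.coe_add, add_mul]⟩
      smul_mem' := fun r x hx t => by
        have := hx (r * t)
        rwa [MulMemClass.coe_mul, mul_left_comm, ← mul_assoc] at this }
  by_contra hne
  have hctop : (1 : S) ∉ c := fun h1 => hne fun i k => by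
    have h2 := h1 ⟨_, (hcS i k).1⟩
    have h3 := h1 ⟨_, (hcS i k).2⟩
    rw [OneMemClass.coe_one, one_mul] at h2 h3
    exact ⟨h2, h3⟩
  have hrad : c.IsRadical := by
    rw [Ideal.isRadical_iff_pow_one_lt 2 one_lt_two]
    intro s hs t
    refine mem_of_sq_of_cube hR hinj ?_ ?_
    · have := hs (t * t)
      rw [SubmonoidClass.coe_pow, MulMemClass.coe_mul] at this
      convert this using 1; ring
    · have := hs (s * t * t * t)
      rw [SubmonoidClass.coe_pow, MulMemClass.coe_mul, MulMemClass.coe_mul, MulMemClass.coe_mul] at this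
      convert this using 1; ring
  obtain ⟨P, hP, hPle⟩ : ∃ P : Ideal R, P.IsPrime ∧ c.comap (algebraMap R S) ≤ P := by
    have : c.comap (algebraMap R S) ≠ ⊤ := fun h => hctop (by
      have h1 : (1 : R) ∈ c.comap (algebraMap R S) := h ▸ Submodule.mem_top
      rwa [Ideal.mem_comap, map_one] at h1)
    obtain ⟨m, hm, hle⟩ := Ideal.exists_le_maximal _ this
    exact ⟨m, hm.isPrime, hle⟩
  obtain ⟨p, hp, -⟩ := Ideal.exists_minimalPrimes_le (I := c.comap (algebraMap R S)) (J := P) hPle
  haveI : p.IsPrime := hp.1.1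
  -- the residue field of the conductor
  haveI : IsReduced (S ⧸ c) := (Ideal.isRadical_iff_quotient_reduced c).mp hrad
  obtain ⟨T, _, _, q₀, χ, hχ₀, hT⟩ := exists_reduced_fibre (S ⧸ c) (c.comap (algebraMap R S))
    (fun z hz => by
      rw [RingHom.mem_ker, IsScalarTower.algebraMap_apply R S (S ⧸ c)]
      exact Ideal.Quotient.eq_zero_iff_mem.mpr hz) p hp
  let φ : R →+* FractionRing (R ⧸ p) := (algebraMap (R ⧸ p) _).comp (Ideal.Quotient.mk p)
  let q : S →+* T := q₀.comp (Ideal.Quotient.mk c)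
  have hχ : χ.comp φ = q.comp (algebraMap R S) := hχ₀
  obtain ⟨f', g', h1', h2', h3'⟩ := hfields φ
  -- lift to `S`
  have hlift : ∀ w : Fin n → K[X], (∀ i k, (w i).coeff k ∈ S) → ∃ w' : Fin n → S[X], ∀ i, (w' i).map S.val.toRingHom = w i :=
    fun w hw => by
      refine ⟨fun i => ∑ k ∈ Finset.range ((w i).natDegree + 1), monomial k ⟨_, hw i k⟩, fun i => ?_⟩
      rw [Polynomial.map_sum]
      simp only [map_monomial]
      exact ((w i).as_sum_range).symm
  obtain ⟨fS, hfS⟩ := hlift f fun i k => (hcS i k).1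
  obtain ⟨gS, hgS⟩ := hlift g fun i k => (hcS i k).2
  have hSinj : Function.Injective (Polynomial.map (S.val.toRingHom)) := map_injective _ Subtype.val_injective
  have hfgS : ∀ i j, fS i * gS j = (a i j).map (algebraMap R S) := fun i j => hSinj (by
    rw [Polynomial.map_mul, hfS, hgS, hfg, Polynomial.map_map]; rfl)
  have hsumS : ∑ i, fS i * gS i = 1 := hSinj (by
    rw [Polynomial.map_sum, Polynomial.map_one, ← hsum]
    exact Finset.sum_congr rfl fun i _ => by rw [Polynomial.map_mul, hfS, hgS])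
  obtain ⟨huf, hug⟩ := vectors_unique (fun i => (fS i).map q) (fun i => (gS i).map q)
    (fun i => (f' i).map χ) (fun i => (g' i).map χ) i₀
    (fun i j => by
      rw [← Polynomial.map_mul, ← Polynomial.map_mul, hfgS, h2', Polynomial.map_map, Polynomial.map_map, hχ])
    (by simp only [← Polynomial.map_mul]; rw [← Polynomial.map_sum, hsumS, Polynomial.map_one])
    (by simp only [← Polynomial.map_mul]; rw [← Polynomial.map_sum, h1', Polynomial.map_one])
    (by
      have h : (fS i₀).coeff 0 = 1 := Subtype.val_injective (by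
        rw [← hfS i₀, coeff_map] at hf0; exact hf0)
      rw [coeff_map, h, map_one])
    (by rw [coeff_map, h3', map_one])
  let D : Subalgebra R K :=
    { carrier := {z | z ∈ S ∧ ∃ t ∉ p, algebraMap R K t * z ∈ Set.range (algebraMap R K)}
      mul_mem' := fun {x y} hx hy => by
        obtain ⟨t, ht, r, hr⟩ := hx.2
        obtain ⟨t', ht', r', hr'⟩ := hy.2
        exact ⟨mul_mem hx.1 hy.1, t * t', fun h => ((Ideal.IsPrime.mem_or_mem ‹_› h)).elim ht ht',
          r * r', by rw [map_mul, map_mul, hr, hr']; ring⟩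
      add_mem' := fun {x y} hx hy => by
        obtain ⟨t, ht, r, hr⟩ := hx.2
        obtain ⟨t', ht', r', hr'⟩ := hy.2
        exact ⟨add_mem hx.1 hy.1, t * t', fun h => ((Ideal.IsPrime.mem_or_mem ‹_› h)).elim ht ht',
          t' * r + t * r', by rw [map_add, map_mul, map_mul, map_mul, hr, hr']; ring⟩
      algebraMap_mem' := fun r => ⟨S.algebraMap_mem r, 1, fun h => Ideal.IsPrime.ne_top ‹_› ((Ideal.eq_top_iff_one _).mpr h),
        r, by rw [map_one, one_mul]⟩ }
  have hgen : ∀ (z : S) (e : FractionRing (R ⧸ p)), q z = χ e → (z : K) ∈ D := fun z e he => by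
    obtain ⟨⟨rb, sb, hsb⟩, hrs⟩ := IsLocalization.surj (nonZeroDivisors (R ⧸ p)) e
    obtain ⟨r, rfl⟩ := Ideal.Quotient.mk_surjective rb
    obtain ⟨s, rfl⟩ := Ideal.Quotient.mk_surjective sb
    have hs : s ∉ p := fun h => nonZeroDivisors.ne_zero hsb (Ideal.Quotient.eq_zero_iff_mem.mpr h)
    have h1 := congrArg χ hrs
    rw [map_mul, ← he] at h1
    change q z * (χ.comp φ) s = (χ.comp φ) r at h1
    rw [hχ] at h1
    change q z * q (algebraMap R S s) = q (algebraMap R S r) at h1
    rw [← map_mul] at h1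
    obtain ⟨t, ht, h2⟩ := hT _ _ h1
    change Ideal.Quotient.mk c (algebraMap R S t) * _ = Ideal.Quotient.mk c (algebraMap R S t) * _ at h2
    rw [← map_mul, ← map_mul, Ideal.Quotient.eq] at h2
    obtain ⟨d, hd⟩ := h2 1
    rw [OneMemClass.coe_one, mul_one, AddSubgroupClass.coe_sub, MulMemClass.coe_mul, MulMemClass.coe_mul,
      MulMemClass.coe_mul] at hd
    refine ⟨z.2, t * s, fun h => (Ideal.IsPrime.mem_or_mem ‹_› h).elim ht hs, d + t * r, ?_⟩
    rw [map_add, map_mul, map_mul, hd]
    show _ = algebraMap R K t * algebraMap R K s * (z : K)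
    rw [show ((algebraMap R S t : S) : K) = algebraMap R K t from rfl,
      show ((algebraMap R S s : S) : K) = algebraMap R K s from rfl,
      show ((algebraMap R S r : S) : K) = algebraMap R K r from rfl]
    ring
  have hSD : S ≤ D := Algebra.adjoin_le fun z hz => by
    obtain ⟨i, hi⟩ := Set.mem_iUnion.mp hz
    rw [Finset.coe_union, Set.mem_union, Finset.mem_coe, Finset.mem_coe, mem_coeffs_iff, mem_coeffs_iff] at hi
    rcases hi with ⟨k, -, rfl⟩ | ⟨k, -, rfl⟩
    · have h := congrArg (fun w => (w i).coeff k) huf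
      simp only [coeff_map] at h
      have := hgen ((fS i).coeff k) _ h
      rwa [show ((fS i).coeff k : K) = (f i).coeff k by rw [← hfS i, coeff_map]; rfl] at this
    · have h := congrArg (fun w => (w i).coeff k) hug
      simp only [coeff_map] at h
      have := hgen ((gS i).coeff k) _ h
      rwa [show ((gS i).coeff k : K) = (g i).coeff k by rw [← hgS i, coeff_map]; rfl] at this
  obtain ⟨l, s, hs⟩ := Module.Finite.exists_fin (R := R) (M := S)
  choose t ht r hr using fun j => (hSD (s j).2).2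
  have htc : algebraMap R S (∏ j, t j) ∈ c := by
    intro x
    have hx : x ∈ Submodule.span R (Set.range s) := hs ▸ Submodule.mem_top
    induction hx using Submodule.span_induction with
    | mem x hx =>
      obtain ⟨j, rfl⟩ := hx
      refine ⟨(∏ j' ∈ Finset.univ.erase j, t j') * r j, ?_⟩
      show _ = algebraMap R K (∏ j, t j) * (s j : K)
      rw [← Finset.prod_erase_mul Finset.univ t (Finset.mem_univ j), map_mul, map_mul, hr]
      ring
    | zero => exact ⟨0, by simp⟩
    | add x y _ _ hx hy =>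
      obtain ⟨p, hp⟩ := hx
      obtain ⟨q, hq⟩ := hy
      exact ⟨p + q, by rw [map_add, hp, hq, AddMemClass.coe_add, mul_add]⟩
    | smul b x _ hx =>
      obtain ⟨p, hp⟩ := hx
      exact ⟨b * p, by rw [map_mul, hp, SetLike.val_smul, Algebra.smul_def]; ring⟩
  obtain ⟨j, -, hj⟩ := ((Ideal.IsPrime.prod_mem_iff).mp (hp.1.2 htc) : ∃ j ∈ Finset.univ, t j ∈ p)
  exact ht j hj

omit hR hinj

/-- **Traverso–Swan.** Invertible modules over `R[X]` are free for a seminormal local ring `R`. -/
theorem free_polynomial_of_seminormal [IsLocalRing R] (hR : HTop.IsSeminormalRing R) (M : Type u) [AddCommGroup M]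
    [Module R[X] M] [Module.Invertible R[X] M] : Module.Free R[X] M := by
  classical
  haveI := isReduced_of_seminormal hR
  obtain ⟨n, m, θ, hm⟩ := exists_dualBasis (R := R[X]) M
  let a : Fin n → Fin n → R[X] := fun i j => θ i (m j)
  let Kp : PrimeSpectrum R → Type u := fun p => FractionRing (R ⧸ p.asIdeal)
  let φ : ∀ p : PrimeSpectrum R, R →+* Kp p := fun p => (algebraMap (R ⧸ p.asIdeal) _).comp (Ideal.Quotient.mk _)
  let K : Type u := ∀ p, Kp p
  letI : Algebra R K := (RingHom.pi φ).toAlgebra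
  haveI : IsReduced K := ⟨fun x ⟨k, hk⟩ => funext fun p => IsReduced.eq_zero (x p) ⟨k, congrFun hk p⟩⟩
  have hinj : Function.Injective (algebraMap R K) := by
    refine (injective_iff_map_eq_zero _).mpr fun x hx => IsReduced.eq_zero x ?_
    rw [← mem_nilradical, nilradical_eq_sInf, Ideal.mem_sInf]
    intro P hP
    haveI := hP
    exact Ideal.Quotient.eq_zero_iff_mem.mp (IsFractionRing.injective (R ⧸ P) (FractionRing (R ⧸ P))
      ((congrFun hx ⟨P, hP⟩).trans (map_zero _).symm))
  have hmapinj : Function.Injective (Polynomial.map (algebraMap R K)) := map_injective _ hinj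
  -- trace one and a unit on the diagonal
  have hone : ∑ i, a i i = 1 := by
    obtain ⟨z, hz⟩ := (Module.Invertible.linearEquiv R[X] M).surjective 1
    have key : ∀ (σ : M →ₗ[R[X]] R[X]) (v w : M), σ v • w = σ w • v := fun σ v w =>
      congrArg (TensorProduct.lift ((LinearMap.lsmul R[X] M).comp σ))
        (Module.Invertible.tmul_comm (R := R[X]) (M := M) (m₁ := v) (m₂ := w))
    have h3 : ∀ z : Module.Dual R[X] M ⊗[R[X]] M, (∑ i, a i i) * Module.Invertible.linearEquiv R[X] M z =
        Module.Invertible.linearEquiv R[X] M z := by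
      intro z
      induction z using TensorProduct.induction_on with
      | zero => simp
      | tmul ρ u =>
        show (∑ i, θ i (m i)) * ρ u = ρ u
        conv_rhs => rw [← hm u, map_sum]
        rw [Finset.sum_mul]
        refine Finset.sum_congr rfl fun i _ => ?_
        rw [← smul_eq_mul, ← map_smul, key]
      | add a b ha hb => rw [map_add, mul_add, ha, hb]
    have := h3 z
    rwa [hz, mul_one] at this
  obtain ⟨i₀, hi₀⟩ : ∃ i, IsUnit ((a i i).coeff 0) := by
    by_contra hall
    push Not at hall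
    have h := congrArg (fun q => q.coeff 0) hone
    simp only [finsetSum_coeff, coeff_one_zero] at h
    exact IsLocalRing.notMem_maximalIdeal.mpr isUnit_one
      (h ▸ Ideal.sum_mem _ fun i _ => (IsLocalRing.mem_maximalIdeal _).mpr (hall i))
  have hfields : ∀ {F : Type u} [Field F] (φ : R →+* F), ∃ f' g' : Fin n → F[X], (∑ i, f' i * g' i = 1) ∧
      (∀ i j, f' i * g' j = (a i j).map φ) ∧ (f' i₀).coeff 0 = 1 ∧ (g' i₀).coeff 0 = φ ((a i₀ i₀).coeff 0) :=
    fun φ => exists_vectors_field m θ hm i₀ φ (hi₀.map φ).ne_zero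
  choose fp gp hs hp hf0 hg0 using fun p : PrimeSpectrum R => hfields (F := Kp p) (φ p)
  have hdegf : ∀ p i, (fp p i).natDegree ≤ Finset.univ.sup (fun ij : Fin n × Fin n => (a ij.1 ij.2).natDegree) := fun p i => by
    have h1 : fp p i * gp p i₀ = (a i i₀).map (φ p) := hp p i i₀
    by_cases h0 : fp p i = 0
    · simp [h0]
    have hg : gp p i₀ ≠ 0 := fun h => (hi₀.map (φ p)).ne_zero (by rw [← hg0 p, h, coeff_zero])
    calc (fp p i).natDegree ≤ (fp p i * gp p i₀).natDegree := by rw [natDegree_mul h0 hg]; exact Nat.le_add_right _ _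
      _ ≤ (a i i₀).natDegree := by rw [h1]; exact natDegree_map_le
      _ ≤ _ := Finset.le_sup (f := fun ij : Fin n × Fin n => (a ij.1 ij.2).natDegree) (Finset.mem_univ (i, i₀))
  have hdegg : ∀ p i, (gp p i).natDegree ≤ Finset.univ.sup (fun ij : Fin n × Fin n => (a ij.1 ij.2).natDegree) := fun p i => by
    have h1 : fp p i₀ * gp p i = (a i₀ i).map (φ p) := hp p i₀ i
    by_cases h0 : gp p i = 0
    · simp [h0]
    have hf : fp p i₀ ≠ 0 := fun h => one_ne_zero (α := Kp p) (by rw [← hf0 p, h, coeff_zero])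
    calc (gp p i).natDegree ≤ (fp p i₀ * gp p i).natDegree := by rw [natDegree_mul hf h0]; exact Nat.le_add_left _ _
      _ ≤ (a i₀ i).natDegree := by rw [h1]; exact natDegree_map_le
      _ ≤ _ := Finset.le_sup (f := fun ij : Fin n × Fin n => (a ij.1 ij.2).natDegree) (Finset.mem_univ (i₀, i))
  let D := Finset.univ.sup (fun ij : Fin n × Fin n => (a ij.1 ij.2).natDegree)
  let f : Fin n → K[X] := fun i => ∑ k ∈ Finset.range (D + 1), monomial k (fun p => (fp p i).coeff k)
  let g : Fin n → K[X] := fun i => ∑ k ∈ Finset.range (D + 1), monomial k (fun p => (gp p i).coeff k)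
  have hev : ∀ p i, (f i).map (Pi.evalRingHom Kp p) = fp p i ∧ (g i).map (Pi.evalRingHom Kp p) = gp p i := fun p i => by
    constructor
    · rw [Polynomial.map_sum]
      simp only [map_monomial]
      exact ((fp p i).as_sum_range' (D + 1) (Nat.lt_succ_of_le (hdegf p i))).symm
    · rw [Polynomial.map_sum]
      simp only [map_monomial]
      exact ((gp p i).as_sum_range' (D + 1) (Nat.lt_succ_of_le (hdegg p i))).symm
  have hext : ∀ {q q' : K[X]}, (∀ p, q.map (Pi.evalRingHom Kp p) = q'.map (Pi.evalRingHom Kp p)) → q = q' :=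
    fun {q q'} h => by
      ext k p
      have := congrArg (fun w => w.coeff k) (h p)
      simpa only [coeff_map, Pi.evalRingHom_apply] using this
  have hfg : ∀ i j, f i * g j = (a i j).map (algebraMap R K) := fun i j => hext fun p => by
    rw [Polynomial.map_mul, (hev p i).1, (hev p j).2, hp, Polynomial.map_map]; rfl
  have hsum : ∑ i, f i * g i = 1 := hext fun p => by
    rw [Polynomial.map_sum, Polynomial.map_one, ← hs p]
    exact Finset.sum_congr rfl fun i _ => by rw [Polynomial.map_mul, (hev p i).1, (hev p i).2]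
  have hf00 : (f i₀).coeff 0 = 1 := funext fun p => by
    have := congrArg (fun w => w.coeff 0) (hev p i₀).1
    rw [coeff_map, hf0] at this
    exact this
  have hmem := coeff_mem_range hR hinj f g i₀ a hfg hsum hi₀ hf00 fun φ => by
    obtain ⟨f', g', h1, h2, h3, -⟩ := hfields φ
    exact ⟨f', g', h1, h2, h3⟩
  have hdesc : ∀ q : K[X], (∀ k, q.coeff k ∈ Set.range (algebraMap R K)) → ∃ q' : R[X], q'.map (algebraMap R K) = q :=
    fun q hq => Polynomial.mem_lifts _ |>.mp ((lifts_iff_coeff_lifts _).mpr hq)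
  choose f' hf' using fun i => hdesc (f i) fun k => (hmem i k).1
  choose g' hg' using fun i => hdesc (g i) fun k => (hmem i k).2
  have hfg' : ∀ i j, f' i * g' j = a i j := fun i j => hmapinj (by rw [Polynomial.map_mul, hf', hg', hfg])
  have hsum' : ∑ i, f' i * g' i = 1 := hmapinj (by
    rw [Polynomial.map_sum, Polynomial.map_one, ← hsum]
    exact Finset.sum_congr rfl fun i _ => by rw [Polynomial.map_mul, hf', hg'])
  refine Module.Free.of_equiv (LinearEquiv.ofLinearMap (∑ i, g' i • θ i)
    (LinearMap.toSpanSingleton R[X] M (∑ i, f' i • m i)) ?_ ?_).symm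
  · refine LinearMap.ext_ring ?_
    simp only [LinearMap.comp_apply, LinearMap.toSpanSingleton_apply, one_smul, map_sum, map_smul,
      LinearMap.sum_apply, LinearMap.smul_apply, LinearMap.id_apply, smul_eq_mul]
    refine Eq.trans (Finset.sum_congr rfl fun j _ => ?_) hsum'
    rw [Finset.mul_sum]
    calc ∑ i, f' j * (g' i * θ i (m j)) = ∑ i, (f' i * g' i) * (f' j * g' j) :=
          Finset.sum_congr rfl fun i _ => by
            rw [show θ i (m j) = f' i * g' j from (hfg' i j).symm]; ring
      _ = f' j * g' j := by rw [← Finset.sum_mul, hsum', one_mul]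
  · refine LinearMap.ext fun v => ?_
    simp only [LinearMap.comp_apply, LinearMap.toSpanSingleton_apply, LinearMap.sum_apply,
      LinearMap.smul_apply, LinearMap.id_apply, smul_eq_mul, Finset.sum_smul, Finset.smul_sum, smul_smul]
    conv_rhs => rw [← hm v]
    refine Finset.sum_congr rfl fun j _ => ?_
    congr 1
    rw [Finset.sum_mul]
    have h1 : θ j v = ∑ i, θ i v * θ j (m i) := by
      conv_lhs => rw [← hm v]
      simp [map_sum]
    rw [h1]
    exact Finset.sum_congr rfl fun i _ => by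
      rw [show θ j (m i) = f' j * g' i from (hfg' j i).symm]; ring

end

end Groth.Agent.PicLau88
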